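import Cfsg.Agent.Lib.OutSuz.Graph
import Cfsg.Agent.Lib.OutSuz.Data

/-!
The centralisers of an element of order 13 and of one of order 6, and an odd symmetry of the graph.
-/
set_option autoImplicit false
set_option maxRecDepth 8000

namespace CfsgLib.OutSuz

open CfsgLib.Presented CfsgLib.Presented.Vec
open CfsgLib.Presented.SuzCosets (phi phi_ev rep_valid ev)
open CfsgLib.Presented.SuzCert (rep)

/-- the element of order 13 -/
noncomputable def elA : Cfsg.Spor.Suz := evW ev wordA

/-- generators of the centraliser of `elB` -/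
noncomputable def elC (k : ℕ) : Cfsg.Spor.Suz := evW ev (wordsCB.getD k [])

/-- the element of order 6 -/
noncomputable def elB : Cfsg.Spor.Suz := elC 0

/-- coset representatives of the point stabiliser -/
noncomputable def elQ (q : ℕ) : Cfsg.Spor.Suz := evW elC (wordsQ.getD q [])

/-- the elements fixing the base point -/
noncomputable def elD (d : ℕ) : Cfsg.Spor.Suz := evW elC (wordsD.getD d [])

theorem netA_ok : (wordA.all (fun y => Nat.blt y 7) &&
    (netOKN netA && sameNet (rep.netW wordA) netA)) = true := by decide +kernel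

theorem net_elA : NetOf netA (phi elA) := by
  have h := netA_ok
  rw [Bool.and_eq_true] at h
  exact (net_word h.1).of_same h.2

theorem netsC_ok : (List.range 4).all (fun k => (wordsCB.getD k []).all (fun y => Nat.blt y 7) &&
    (netOKN (netsC.getD k []) && sameNet (rep.netW (wordsCB.getD k [])) (netsC.getD k []))) = true := by
  decide +kernel

theorem net_elC {k : ℕ} (hk : k < 4) : NetOf (netsC.getD k []) (phi (elC k)) := by
  have h := netsC_ok
  simp only [List.all_eq_true, List.mem_range] at h
  have h := h k hk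
  rw [Bool.and_eq_true] at h
  exact (net_word h.1).of_same h.2

theorem net_elB : NetOf netC0 (phi elB) := net_elC (k := 0) (by decide)

theorem netsQ_ok : (List.range 6).all (fun q => (wordsQ.getD q []).all (fun y => Nat.blt y 4) &&
    (netOKN (netsQ.getD q []) && sameNet ((wordsQ.getD q []).flatMap fun k => netsC.getD k []) (netsQ.getD q []))) =
    true := by
  decide +kernel

theorem net_elQ {q : ℕ} (hq : q < 6) : NetOf (netsQ.getD q []) (phi (elQ q)) := by
  have h := netsQ_ok
  simp only [List.all_eq_true (l := List.range 6), List.mem_range] at h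
  have h := h q hq
  rw [Bool.and_eq_true] at h
  refine NetOf.of_same ?_ h.2
  rw [elQ, map_evW]
  exact NetOf.flat (fun x hx => net_elC hx) h.1

theorem netsD_ok : (List.range 12).all (fun d => (wordsD.getD d []).all (fun y => Nat.blt y 4) &&
    (netOKN (netsD.getD d []) && sameNet ((wordsD.getD d []).flatMap fun k => netsC.getD k []) (netsD.getD d []))) =
    true := by
  decide +kernel

theorem net_elD {d : ℕ} (hd : d < 12) : NetOf (netsD.getD d []) (phi (elD d)) := by
  have h := netsD_ok
  simp only [List.all_eq_true (l := List.range 12), List.mem_range] at h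
  have h := h d hd
  rw [Bool.and_eq_true] at h
  refine NetOf.of_same ?_ h.2
  rw [elD, map_evW]
  exact NetOf.flat (fun x hx => net_elC hx) h.1

theorem row0_ok : (rowOK row0 && Nat.beq row0.1 0 && Nat.beq row0.2.2 D0) = true := by decide +kernel

theorem D0_pres {π : Pm} (hπ : Pres π) (h0 : π p0 = p0) (x : Fin rep.N) :
    D0.testBit (π x) = D0.testBit x := by
  have h := row0_ok
  simp only [Bool.and_eq_true] at h
  have e : (⟨row0.1, rowOK_lt h.1.1⟩ : Fin rep.N) = p0 := Fin.ext (Nat.eq_of_beq_eq_true h.1.2)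
  have h1 := row_inv hπ h.1.1 (by rw [e, h0]) x
  rwa [Nat.eq_of_beq_eq_true h.2] at h1

/-! ### The element of order 13 -/

/-- the orbit of a point under a network, grown step by step -/
noncomputable def orbMask (l : List Stage) (r : ℕ) : ℕ → ℕ
  | 0 => one1 r
  | k + 1 => force (orbMask l r k) fun S => Nat.lor S (applyNet l S)

theorem orbMask_spec {l : List Stage} {π : Pm} (h : NetOf l π) {r : ℕ} : ∀ {k : ℕ} {j : Fin rep.N},
    (orbMask l r k).testBit j = true → ∃ i, (((π ^ i) j : Fin rep.N) : ℕ) = r
  | 0, j, hb => by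
    rw [orbMask, testBit_one1, decide_eq_true_eq] at hb
    exact ⟨0, by simpa using hb⟩
  | k + 1, j, hb => by
    rw [orbMask, force_eq, show ∀ a b : ℕ, Nat.lor a b = a ||| b from fun _ _ => rfl, Nat.testBit_or,
      Bool.or_eq_true, h.bit] at hb
    rcases hb with hb | hb
    · exact orbMask_spec h hb
    · obtain ⟨i, hi⟩ := orbMask_spec h (j := π j) hb
      exact ⟨i + 1, by rwa [pow_succ, Equiv.Perm.mul_apply]⟩

/-- the point 155 -/
abbrev vA : Fin rep.N := ⟨155, by decide⟩

/-- the row of the point 155 -/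
def rowVA : Row := rowsA.getD 1 (0, [], 0)

theorem fixA_ok : Nat.beq (fixMask netA) 1 = true := by decide +kernel

theorem coverA_ok : (repsA.all (fun r => rowOK r.1) &&
    Nat.beq (repsA.foldr (fun r S => Nat.lor (orbMask netA r.1.1 12) S) 0) D0) = true := by decide +kernel

theorem repsA_ok : (rowOK rowVA && Nat.beq rowVA.1 155 && repsA.all (fun r => Nat.beq r.1.1 155 ||
    ((applyNet (netPow netA r.2) r.1.2.2).testBit r.1.1 !=
      (applyNet (netPow netA r.2) rowVA.2.2).testBit 155))) = true := by decide +kernel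

theorem chainA_ok : (initOK netA 155 13 rowsA && chainOK rowsA stepsA) = true := by decide +kernel

theorem foldr_lor_bit {α : Type*} (f : α → ℕ) {j : ℕ} : ∀ {l : List α},
    (l.foldr (fun r S => Nat.lor (f r) S) 0).testBit j = true → ∃ r ∈ l, (f r).testBit j = true
  | [], h => by simp at h
  | r :: l, h => by
    rw [List.foldr_cons, show ∀ a b : ℕ, Nat.lor a b = a ||| b from fun _ _ => rfl, Nat.testBit_or,
      Bool.or_eq_true] at h
    rcases h with h | h
    · exact ⟨r, List.mem_cons_self, h⟩
    · obtain ⟨s, hs, h⟩ := foldr_lor_bit f h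
      exact ⟨s, List.mem_cons_of_mem r hs, h⟩

theorem base_of_comm_A {π : Pm} (hc : π * phi elA = phi elA * π) : π p0 = p0 := by
  have h : phi elA p0 = p0 := by
    rw [← fixMask_spec net_elA, Nat.eq_of_beq_eq_true fixA_ok]
    rfl
  have h1 : phi elA (π p0) = π p0 := by
    rw [← Equiv.Perm.mul_apply, ← hc, Equiv.Perm.mul_apply, h]
  rw [← fixMask_spec net_elA, Nat.eq_of_beq_eq_true fixA_ok] at h1
  exact Fin.ext (VCert.one_bit h1)

theorem cent_A {π : Pm} (hπ : Pres π) (hc : π * phi elA = phi elA * π) :
    ∃ i : ℕ, (phi elA) ^ i * π = 1 := by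
  set A := phi elA with hA
  have hcov := coverA_ok
  have hreps := repsA_ok
  have hch := chainA_ok
  simp only [Bool.and_eq_true, List.all_eq_true] at hcov hreps hch
  obtain ⟨⟨hv, hv1⟩, hreps⟩ := hreps
  have h0 := base_of_comm_A hc
  have hAv : (⟨rowVA.1, rowOK_lt hv⟩ : Fin rep.N) = vA := Fin.ext (Nat.eq_of_beq_eq_true hv1)
  have hbit : D0.testBit (π vA) = true := by
    rw [D0_pres hπ h0]
    decide +kernel
  rw [← Nat.eq_of_beq_eq_true hcov.2] at hbit
  obtain ⟨⟨r, e⟩, hr, hb⟩ := foldr_lor_bit (fun r : Row × ℕ => orbMask netA r.1.1 12) hbit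
  obtain ⟨i, hi⟩ := orbMask_spec net_elA hb
  refine ⟨i, ?_⟩
  have hP : Pres (A ^ i * π) := by
    rw [hA, ← map_pow]
    exact (pres_phi _).mul hπ
  have hcA : (A ^ i * π) * A = A * (A ^ i * π) := by
    rw [mul_assoc, hc, ← mul_assoc, ← pow_succ, pow_succ', mul_assoc]
  have hr1 := hcov.1 _ hr
  have him : (A ^ i * π) vA = ⟨r.1, rowOK_lt hr1⟩ := Fin.ext hi
  refine pin (v := vA) hP net_elA hcA (base_of_comm_A hcA) ?_ hch.1 hch.2
  rw [him]
  have hne := hreps _ hr
  simp only [Bool.or_eq_true, bne_iff_ne, ne_eq] at hne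
  rcases hne with hne | hne
  · exact Fin.ext (Nat.eq_of_beq_eq_true hne)
  · exfalso
    apply hne
    have hn := (net_elA.pow e)
    have e1 := hn.bit r.2.2 ⟨r.1, rowOK_lt hr1⟩
    have e2 := hn.bit rowVA.2.2 vA
    have hcAe : (A ^ i * π) * A ^ e = A ^ e * (A ^ i * π) :=
      (Commute.pow_right (show Commute (A ^ i * π) A from hcA) e).eq
    rw [e1, show (155 : ℕ) = (vA : ℕ) from rfl, e2, Bool.eq_iff_iff, ← rowOK_spec hr1, ← rowOK_spec hv,
      ← him, hAv, ← Equiv.Perm.mul_apply, ← hcAe, Equiv.Perm.mul_apply]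
    exact hP _ _

/-! ### The outer involution -/

theorem netU_ok : (netOKN netU && sameNet (netU ++ netU) [] && Nat.beq (applyNet netU 1) 1 &&
    Nat.beq (applyNet netU D0) D0 && sameNet (netU ++ netC0) (netC0 ++ netU) &&
    (List.range 7).all (fun x => (wordsU.getD x []).all (fun y => Nat.blt y 7) &&
      sameNet (netU ++ (rep.net x ++ netU)) (rep.netW (wordsU.getD x []))) &&
    Nat.beq ((rep.N - bitCount (fixMask netU) rep.N) / 2 % 2) 1) = true := by decide +kernel

theorem netU_okN : netOKN netU = true := by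
  have h := netU_ok
  simp only [Bool.and_eq_true] at h
  exact h.1.1.1.1.1.1

/-- the outer involution -/
noncomputable def permU : Pm := netToPerm netU netU_okN

theorem net_permU : NetOf netU permU := netToPerm_net netU netU_okN

theorem permU_sq : permU * permU = 1 := by
  have h := netU_ok
  simp only [Bool.and_eq_true] at h
  exact (net_permU.mul net_permU).eq_of_same NetOf.one h.1.1.1.1.1.2

theorem permU_p0 : permU p0 = p0 := by
  have h := netU_ok
  simp only [Bool.and_eq_true] at h
  exact net_permU.sends (y := p0) (x := p0) h.1.1.1.1.2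

theorem permU_D0 (x : Fin rep.N) : D0.testBit (permU x) = D0.testBit x := by
  have h := netU_ok
  simp only [Bool.and_eq_true] at h
  rw [← net_permU.bit, Nat.eq_of_beq_eq_true h.1.1.1.2]

theorem permU_comm : permU * phi elB = phi elB * permU := by
  have h := netU_ok
  simp only [Bool.and_eq_true] at h
  exact (net_permU.mul net_elB).eq_of_same (net_elB.mul net_permU) h.1.1.2

theorem permU_inv : permU⁻¹ = permU := inv_eq_of_mul_eq_one_right permU_sq

/-- conjugation by the outer involution keeps the group -/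
theorem permU_normal (g : Cfsg.Spor.Suz) : ∃ g', phi g' = permU * phi g * permU := by
  have hU := netU_ok
  simp only [Bool.and_eq_true, List.all_eq_true (l := List.range 7), List.mem_range] at hU
  have hg : g ∈ Subgroup.closure (ev '' Set.Iio SuzCert.alphabet.eps) := by
    rw [SuzCosets.gen_top]; exact Subgroup.mem_top g
  induction hg using Subgroup.closure_induction with
  | mem y hy =>
    obtain ⟨x, hx, rfl⟩ := hy
    have hx' : x < 7 := hx
    have h := hU.1.2 x hx'
    refine ⟨evW ev (wordsU.getD x []), ?_⟩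
    rw [mul_assoc]
    exact ((net_permU.mul ((net_letter hx').mul net_permU)).eq_of_same (net_word h.1) h.2).symm
  | one => exact ⟨1, by rw [map_one, mul_one, permU_sq]⟩
  | mul y z _ _ ihy ihz =>
    obtain ⟨y', hy'⟩ := ihy
    obtain ⟨z', hz'⟩ := ihz
    refine ⟨y' * z', ?_⟩
    calc phi (y' * z') = permU * phi y * (permU * permU) * phi z * permU := by
          rw [map_mul, hy', hz']; simp only [mul_assoc]
      _ = _ := by rw [permU_sq, map_mul]; simp only [mul_assoc, mul_one]
  | inv y _ ih =>
    obtain ⟨y', hy'⟩ := ih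
    refine ⟨y'⁻¹, ?_⟩
    rw [map_inv, hy', mul_inv_rev, mul_inv_rev, permU_inv, map_inv, mul_assoc]

theorem pres_permU : Pres permU := by
  have fwd : ∀ i j, Adj i j → Adj (permU i) (permU j) := by
    rintro i j ⟨g, hg, hb⟩
    obtain ⟨g', hg'⟩ := permU_normal g
    refine ⟨g', by rw [hg', Equiv.Perm.mul_apply, Equiv.Perm.mul_apply, permU_p0, hg], ?_⟩
    rw [map_inv, hg', mul_inv_rev, mul_inv_rev, permU_inv, Equiv.Perm.mul_apply, Equiv.Perm.mul_apply,
      ← Equiv.Perm.mul_apply permU permU, permU_sq, Equiv.Perm.one_apply, permU_D0, ← map_inv, hb]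
  refine fun i j => ⟨fun h => ?_, fwd i j⟩
  have := fwd _ _ h
  rwa [← Equiv.Perm.mul_apply, ← Equiv.Perm.mul_apply, permU_sq, Equiv.Perm.one_apply,
    Equiv.Perm.one_apply] at this

/-- all permutations of the group are even -/
theorem sign_phi (g : Cfsg.Spor.Suz) : Equiv.Perm.sign (phi g) = 1 := by
  let f : Cfsg.Spor.Suz →* ℤˣ := Equiv.Perm.sign.comp phi
  have := SuzSimple.simple
  rcases (inferInstance : f.ker.Normal).eq_bot_or_eq_top with h | h
  · exfalso
    have hle := Nat.card_le_card_of_injective f ((MonoidHom.ker_eq_bot_iff f).1 h)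
    rw [SuzOrder.card_eq, Nat.card_eq_fintype_card, Fintype.card_units_int] at hle
    omega
  · have : g ∈ f.ker := h ▸ Subgroup.mem_top g
    exact this

theorem sign_permU : Equiv.Perm.sign permU = -1 := by
  have h := netU_ok
  simp only [Bool.and_eq_true] at h
  have hc : Fintype.card (Function.fixedPoints permU) = bitCount (fixMask netU) rep.N := by
    rw [bitCount_eq, ← Nat.card_eq_fintype_card, ← Nat.card_eq_finsetCard]
    refine Nat.card_congr ⟨fun x => ⟨(x.1 : ℕ), ?_⟩, fun x => ⟨⟨x.1, ?_⟩, ?_⟩, fun _ => rfl, fun _ => rfl⟩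
    · rw [Finset.mem_filter, Finset.mem_range]
      exact ⟨x.1.2, (fixMask_spec net_permU x.1).2 x.2⟩
    · exact Finset.mem_range.1 (Finset.mem_filter.1 x.2).1
    · exact (fixMask_spec net_permU ⟨x.1, _⟩).1 (Finset.mem_filter.1 x.2).2
  rw [Equiv.Perm.sign_of_pow_two_eq_one (by rw [pow_two, permU_sq]), Fintype.card_fin, hc]
  exact Odd.neg_one_pow (Nat.odd_iff.2 (Nat.eq_of_beq_eq_true h.2))

theorem permU_not_mem (g : Cfsg.Spor.Suz) : phi g ≠ permU := fun e => by
  have h := sign_phi g
  rw [e, sign_permU] at h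
  exact absurd h (by decide)

/-! ### The element of order 6 -/

/-- the fixed points of a power that are not fixed by the element -/
noncomputable def powFix (nm : ℕ) : ℕ :=
  cond (Nat.beq nm 1) (fixMask netC0)
    (Nat.land (fixMask (netPow netC0 nm)) (Nat.xor (ones rep.N) (fixMask netC0)))

/-- the condition defining a set of reference points -/
noncomputable def setMask (nm : ℕ) (t : Bool) : ℕ :=
  Nat.land (powFix nm) (cond t D0 (Nat.xor (ones rep.N) (Nat.lor D0 1)))

/-- the rows of a set are right -/
noncomputable def setOK (s : ℕ × Bool × List Row) : Bool :=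
  (s.2.2.all rowOK) && decide ((s.2.2.map fun r => r.1).Nodup) &&
    Nat.beq (s.2.2.foldr (fun r S => Nat.lor (one1 r.1) S) 0) (setMask s.1 s.2.1)

/-- the number of adjacent points in a set -/
def cntRow (l : List Row) (w : ℕ) : ℕ := l.countP fun r => r.2.2.testBit w

/-- the same invariants as the point 2 -/
def sameClass (w : ℕ) : Bool :=
  (D0.testBit w == D0.testBit 2) && setsB.all fun s => Nat.beq (cntRow s.2.2 w) (cntRow s.2.2 2)

theorem setsB_ok : setsB.all setOK = true := by decide +kernel

theorem classB_ok : (List.range rep.N).all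
    (fun w => !sameClass w || (targets.map fun t => t.2.2).contains w) = true := by decide +kernel

theorem chainB_ok : (initOK netC0 2 6 rowsB && chainOK rowsB stepsB) = true := by decide +kernel

theorem targets_ok : targets.all (fun t => Nat.blt t.2.1 12 &&
    sendsB (netsD.getD t.2.1 [] ++ cond t.1 netU []) 2 t.2.2) = true := by decide +kernel

theorem elements_ok : ((List.range 12).all (fun d => Nat.beq (applyNet (netsD.getD d []) 1) 1 &&
      sameNet (netC0 ++ netsD.getD d []) (netsD.getD d [] ++ netC0)) &&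
    (List.range 6).all (fun q => sendsB (netsQ.getD q []) 0 (fixB.getD q 0) &&
      sameNet (netC0 ++ netsQ.getD q []) (netsQ.getD q [] ++ netC0)) &&
    Nat.beq fixB.length 6 && Nat.beq (fixMask netC0) (fixB.foldr (fun q S => Nat.lor (one1 q) S) 0)) = true := by
  decide +kernel

theorem powFix_inv {σ : Pm} (hσ : σ * phi elB = phi elB * σ) (nm : ℕ) (x : Fin rep.N) :
    (powFix nm).testBit (σ x) = (powFix nm).testBit x := by
  have key : ∀ k, (fixMask (netPow netC0 k)).testBit (σ x) = (fixMask (netPow netC0 k)).testBit x := by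
    intro k
    rw [Bool.eq_iff_iff, fixMask_spec (net_elB.pow k), fixMask_spec (net_elB.pow k), ← Equiv.Perm.mul_apply,
      ← (Commute.pow_right (show Commute σ (phi elB) from hσ) k).eq, Equiv.Perm.mul_apply,
      σ.injective.eq_iff]
  have k1 : (fixMask netC0).testBit (σ x) = (fixMask netC0).testBit x := by
    rw [Bool.eq_iff_iff, fixMask_spec net_elB, fixMask_spec net_elB, ← Equiv.Perm.mul_apply, ← hσ,
      Equiv.Perm.mul_apply, σ.injective.eq_iff]
  rw [powFix]
  cases Nat.beq nm 1
  · rw [cond_false, show ∀ a b : ℕ, Nat.land a b = a &&& b from fun _ _ => rfl,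
      show ∀ a b : ℕ, Nat.xor a b = a ^^^ b from fun _ _ => rfl]
    simp only [Nat.testBit_and, Nat.testBit_xor, key nm, k1, testBit_all]
  · rw [cond_true]
    exact k1

theorem setMask_inv {σ : Pm} (hπ : Pres σ) (h0 : σ p0 = p0) (hσ : σ * phi elB = phi elB * σ) (nm : ℕ)
    (t : Bool) (x : Fin rep.N) : (setMask nm t).testBit (σ x) = (setMask nm t).testBit x := by
  have h1 : (1 : ℕ).testBit (σ x) = (1 : ℕ).testBit x := by
    rw [Bool.eq_iff_iff]
    constructor <;> intro h
    · have e : σ x = p0 := Fin.ext (VCert.one_bit h)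
      rw [← h0] at e
      rw [σ.injective e]
      rfl
    · rw [show x = p0 from Fin.ext (VCert.one_bit h), h0]
      rfl
  rw [setMask, show ∀ a b : ℕ, Nat.land a b = a &&& b from fun _ _ => rfl, Nat.testBit_and,
    Nat.testBit_and, powFix_inv hσ]
  cases t
  · rw [cond_false, show ∀ a b : ℕ, Nat.xor a b = a ^^^ b from fun _ _ => rfl,
      show ∀ a b : ℕ, Nat.lor a b = a ||| b from fun _ _ => rfl]
    simp only [Nat.testBit_xor, Nat.testBit_or, testBit_all, D0_pres hπ h0, h1]
  · rw [cond_true, D0_pres hπ h0]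

theorem foldr_lor_iff {α : Type*} (f : α → ℕ) (j : ℕ) : ∀ l : List α,
    (l.foldr (fun r S => Nat.lor (one1 (f r)) S) 0).testBit j = true ↔ j ∈ l.map f
  | [] => by simp
  | r :: l => by
    rw [List.foldr_cons, show ∀ a b : ℕ, Nat.lor a b = a ||| b from fun _ _ => rfl, Nat.testBit_or,
      Bool.or_eq_true, testBit_one1, decide_eq_true_eq, foldr_lor_iff f j l, List.map_cons, List.mem_cons]

theorem cnt_inv {σ : Pm} (hπ : Pres σ) (h0 : σ p0 = p0) (hσ : σ * phi elB = phi elB * σ)
    {s : ℕ × Bool × List Row} (hs : setOK s = true) (w : Fin rep.N) :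
    cntRow s.2.2 (σ w) = cntRow s.2.2 w := by
  classical
  simp only [setOK, Bool.and_eq_true, List.all_eq_true, decide_eq_true_eq] at hs
  obtain ⟨⟨hrows, hnd⟩, hmask⟩ := hs
  let S : Finset (Fin rep.N) := Finset.univ.filter fun x => (setMask s.1 s.2.1).testBit x = true
  have key : ∀ u : Fin rep.N, cntRow s.2.2 u = (S.filter fun f => Adj f u).card := by
    intro u
    rw [cntRow, List.countP_eq_length_filter]
    let g : {r // r ∈ s.2.2} → Fin rep.N := fun r => ⟨r.1.1, rowOK_lt (hrows _ r.2)⟩
    let L := s.2.2.attach.map g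
    have hL : L.Nodup := by
      refine List.Nodup.of_map (fun x : Fin rep.N => (x : ℕ)) ?_
      have e : L.map (fun x : Fin rep.N => (x : ℕ)) = s.2.2.map fun r => r.1 := by
        simp only [L, List.map_map]
        exact List.attach_map_val (l := s.2.2) (f := fun r => r.1)
      rwa [e]
    have hS : S = L.toFinset := by
      ext x
      simp only [S, Finset.mem_filter, Finset.mem_univ, true_and, List.mem_toFinset, L, List.mem_map,
        List.mem_attach, ← Nat.eq_of_beq_eq_true hmask, foldr_lor_iff]
      constructor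
      · rintro ⟨r, hr, e⟩
        exact ⟨⟨r, hr⟩, Fin.ext e⟩
      · rintro ⟨r, e⟩
        exact ⟨r.1, r.2, congrArg Fin.val e⟩
    have hF : (L.toFinset.filter fun f => Adj f u) = (L.filter fun f => decide (Adj f u)).toFinset := by
      ext f
      simp
    rw [hS, hF, List.toFinset_card_of_nodup (hL.filter _), List.filter_map, List.length_map]
    conv_lhs => rw [← List.attach_map_subtype_val s.2.2, List.filter_map, List.length_map]
    congr 1
    refine List.filter_congr fun r _ => ?_
    simp only [Function.comp_apply]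
    rw [Bool.eq_iff_iff, decide_eq_true_iff]
    exact (rowOK_spec (hrows _ r.2) u).symm
  rw [key, key]
  symm
  refine Finset.card_equiv σ fun x => ?_
  simp only [S, Finset.mem_filter, Finset.mem_univ, true_and, setMask_inv hπ h0 hσ]
  exact and_congr_right fun _ => (hπ x w).symm

/-- The permutations of the graph commuting with the element of order 6. -/
theorem cent_B {π : Pm} (hπ : Pres π) (hc : π * phi elB = phi elB * π) :
    ∃ q < 6, ∃ d < 12, π = phi (elQ q * elD d) ∨ π = phi (elQ q * elD d) * permU := by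
  set B := phi elB with hB
  have hel := elements_ok
  simp only [Bool.and_eq_true, List.all_eq_true, List.mem_range] at hel
  obtain ⟨⟨⟨hD, hQ⟩, hlen⟩, hfix⟩ := hel
  have hB0 : B p0 = p0 := by
    rw [hB, ← fixMask_spec net_elB, Nat.eq_of_beq_eq_true hfix]
    decide +kernel
  have hmem : (fixMask netC0).testBit (π p0) = true := by
    rw [fixMask_spec net_elB, ← hB, ← Equiv.Perm.mul_apply, ← hc, Equiv.Perm.mul_apply, hB0]
  rw [Nat.eq_of_beq_eq_true hfix, foldr_lor_iff (fun q : ℕ => q), List.map_id'] at hmem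
  obtain ⟨q, hq, hqe⟩ := List.getElem_of_mem hmem
  have hq6 : q < 6 := by rwa [← Nat.eq_of_beq_eq_true hlen]
  obtain ⟨hQ0, hQc⟩ := hQ q hq6
  have hQp : phi (elQ q) p0 = π p0 := (net_elQ hq6).sends (y := p0) (x := π p0)
    (by rw [← hqe, ← List.getD_eq_getElem _ 0 hq]; exact hQ0)
  have hQB : B * phi (elQ q) = phi (elQ q) * B :=
    (net_elB.mul (net_elQ hq6)).eq_of_same ((net_elQ hq6).mul net_elB) hQc
  set σ := (phi (elQ q))⁻¹ * π with hσdef
  have hσP : Pres σ := (pres_phi _).inv.mul hπ
  have hσ0 : σ p0 = p0 := by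
    rw [hσdef, Equiv.Perm.mul_apply, ← hQp]
    exact Equiv.symm_apply_apply _ _
  have hσc : σ * B = B * σ :=
    (Commute.mul_left (Commute.inv_left (show Commute (phi (elQ q)) B from hQB.symm))
      (show Commute π B from hc)).eq
  let v : Fin rep.N := ⟨2, by decide⟩
  have hclass : sameClass (σ v) = true := by
    simp only [sameClass, Bool.and_eq_true, List.all_eq_true, beq_iff_eq]
    refine ⟨D0_pres hσP hσ0 v, fun s hs => ?_⟩
    rw [cnt_inv hσP hσ0 hσc (List.all_eq_true.1 setsB_ok s hs) v]
    exact Nat.beq_refl _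
  have htg := List.all_eq_true.1 classB_ok (σ v : ℕ) (List.mem_range.2 (σ v).2)
  rw [hclass, Bool.not_true, Bool.false_or, List.contains_iff_mem, List.mem_map] at htg
  obtain ⟨t, ht, hte⟩ := htg
  have htok := List.all_eq_true.1 targets_ok t ht
  rw [Bool.and_eq_true, Nat.blt_eq] at htok
  obtain ⟨hd, hts⟩ := htok
  obtain ⟨hD0, hDc⟩ := hD _ hd
  have hDp : phi (elD t.2.1) p0 = p0 := (net_elD hd).sends (y := p0) (x := p0) hD0
  have hDB : B * phi (elD t.2.1) = phi (elD t.2.1) * B :=
    (net_elB.mul (net_elD hd)).eq_of_same ((net_elD hd).mul net_elB) hDc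
  have hch := chainB_ok
  rw [Bool.and_eq_true] at hch
  refine ⟨q, hq6, t.2.1, hd, ?_⟩
  have finish : ∀ τ : Pm, Pres τ → τ p0 = p0 → Commute τ B → τ v = σ v →
      π = phi (elQ q) * τ := by
    intro τ hτP hτ0 hτc hτv
    have h1 : τ⁻¹ * σ = 1 := by
      refine pin (v := v) (hτP.inv.mul hσP) net_elB ?_ ?_ ?_ hch.1 hch.2
      · exact (Commute.mul_left hτc.inv_left (show Commute σ B from hσc)).eq
      · rw [Equiv.Perm.mul_apply, hσ0]
        exact (Equiv.symm_apply_eq _).2 hτ0.symm
      · rw [Equiv.Perm.mul_apply, ← hτv]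
        exact Equiv.symm_apply_apply _ _
    rw [inv_mul_eq_one.1 h1, hσdef, mul_inv_cancel_left]
  rw [hte] at hts
  cases hk : t.1
  · left
    rw [hk, cond_false, List.append_nil] at hts
    rw [map_mul]
    exact finish _ (pres_phi _) hDp hDB.symm (Fin.ext ((congrArg Fin.val
      ((net_elD hd).sends (y := v) (x := σ v) hts))))
  · right
    rw [hk, cond_true] at hts
    rw [map_mul, mul_assoc]
    exact finish _ ((pres_phi _).mul pres_permU) (by rw [Equiv.Perm.mul_apply, permU_p0, hDp])
      (Commute.mul_left (show Commute (phi (elD t.2.1)) B from hDB.symm) (show Commute permU B from permU_comm))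
      (((net_elD hd).mul net_permU).sends (y := v) (x := σ v) hts)

end CfsgLib.OutSuz
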