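import Cfsg.Agent.Lib.Presented.SuzSimple

/-!
The graph of valency 416 on the 1782 cosets in the presented Suzuki group, with permutations given by networks.
-/
set_option autoImplicit false
set_option maxRecDepth 8000

namespace CfsgLib.OutSuz

open CfsgLib.Presented CfsgLib.Presented.Vec
open CfsgLib.Presented.SuzCosets (phi phi_ev rep_valid ev H equiv equiv_smul)
open CfsgLib.Presented.SuzCert (rep)

/-- permutations of the cosets -/
abbrev Pm := Equiv.Perm (Fin rep.N)

/-- the network realises the permutation -/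
structure NetOf (l : List Stage) (π : Pm) : Prop where
  ok : netOk l = true
  val : ∀ i : Fin rep.N, netPerm l i = (π i : ℕ)

theorem NetOf.one : NetOf [] 1 := ⟨rfl, fun i => by simp [netPerm]⟩

theorem NetOf.mul {l l' : List Stage} {π π' : Pm} (h : NetOf l π) (h' : NetOf l' π') :
    NetOf (l ++ l') (π * π') :=
  ⟨by rw [netOk, List.all_append, Bool.and_eq_true]; exact ⟨h.ok, h'.ok⟩,
    fun i => by rw [netPerm_append, Equiv.Perm.mul_apply, h'.val, h.val, Equiv.Perm.mul_apply]⟩

theorem netPerm_reverse : ∀ l : List Stage, netPerm l.reverse = (netPerm l)⁻¹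
  | [] => by simp [netPerm]
  | s :: l => by
    have hs : s.perm⁻¹ = s.perm := inv_eq_of_mul_eq_one_right (Equiv.ext fun i => s.swp_involutive i)
    rw [List.reverse_cons, netPerm_append, netPerm_reverse l]
    simp [netPerm, hs]

theorem NetOf.rev {l : List Stage} {π : Pm} (h : NetOf l π) : NetOf l.reverse π⁻¹ := by
  refine ⟨?_, fun i => ?_⟩
  · have := h.ok
    simp only [netOk, List.all_eq_true, List.mem_reverse] at this ⊢
    exact this
  · rw [netPerm_reverse]
    refine (Equiv.symm_apply_eq _).2 ?_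
    rw [h.val]
    exact congrArg Fin.val (π.apply_symm_apply i).symm

/-- repeat a network -/
def netPow (l : List Stage) : ℕ → List Stage
  | 0 => []
  | k + 1 => l ++ netPow l k

theorem NetOf.pow {l : List Stage} {π : Pm} (h : NetOf l π) : ∀ k, NetOf (netPow l k) (π ^ k)
  | 0 => by rw [pow_zero]; exact NetOf.one
  | k + 1 => by rw [pow_succ']; exact h.mul (h.pow k)

theorem NetOf.bit {l : List Stage} {π : Pm} (h : NetOf l π) (v : ℕ) (j : Fin rep.N) :
    (applyNet l v).testBit j = v.testBit (π j) := by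
  rw [testBit_applyNet h.ok, h.val]

theorem testBit_all (j : Fin rep.N) : (ones rep.N).testBit j = true := by
  rw [testBit_ones]
  exact decide_eq_true j.2

/-- a single bit -/
def one1 (p : ℕ) : ℕ := Nat.shiftLeft 1 p

theorem testBit_one1 (p j : ℕ) : (one1 p).testBit j = decide (j = p) := by
  show (1 <<< p).testBit j = _
  rw [Nat.shiftLeft_eq, one_mul, Nat.testBit_two_pow]
  exact decide_eq_decide.2 eq_comm

/-- the network takes `y` to `x` -/
noncomputable def sendsB (l : List Stage) (y x : ℕ) : Bool := Nat.beq (applyNet l (one1 x)) (one1 y)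

theorem NetOf.sends {l : List Stage} {π : Pm} (h : NetOf l π) {y x : Fin rep.N}
    (hb : sendsB l y x = true) : π y = x := by
  have hb' : applyNet l (one1 x) = one1 y := Nat.eq_of_beq_eq_true hb
  have := h.bit (one1 x) y
  rw [hb', testBit_one1, testBit_one1, decide_eq_decide] at this
  exact Fin.ext (this.1 rfl)

theorem applyNet_one_bit {l : List Stage} {π : Pm} (h : NetOf l π) (hπ : π = 1) {p : ℕ} (hp : p < rep.N) :
    applyNet l (one1 p) = one1 p := by
  refine Nat.eq_of_testBit_eq fun j => ?_
  rw [testBit_applyNet h.ok, testBit_one1, testBit_one1, decide_eq_decide]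
  have hfix : netPerm l p = p := by
    have := h.val ⟨p, hp⟩
    rwa [hπ] at this
  exact ⟨fun e => (netPerm l).injective (e.trans hfix.symm), fun e => e ▸ hfix⟩

/-- the two networks agree on the cosets -/
noncomputable def sameNet (l l' : List Stage) : Bool :=
  (slices rep.m).all fun s => agreeOn rep.N (applyNet l s) (applyNet l' s)

theorem NetOf.eq_of_same {l l' : List Stage} {π π' : Pm} (h : NetOf l π) (h' : NetOf l' π')
    (hs : sameNet l l' = true) : π = π' := by
  refine Equiv.ext fun i => Fin.ext ?_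
  have hN := (Rep.valid_spec rep_valid).2.1
  refine eq_of_slices (lt_of_lt_of_le (π i).2 hN) (lt_of_lt_of_le (π' i).2 hN) fun s hsm => ?_
  simp only [sameNet, List.all_eq_true] at hs
  rw [← h.bit s i, ← h'.bit s i]
  exact agreeOn_spec (hs s hsm) i.2

/-- the network is well formed and keeps the cosets -/
noncomputable def netOKN (l : List Stage) : Bool :=
  netOk l && Nat.beq (applyNet l (ones rep.N)) (ones rep.N)

theorem netOKN_lt {l : List Stage} (h : netOKN l = true) {i : ℕ} (hi : i < rep.N) : netPerm l i < rep.N := by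
  simp only [netOKN, Bool.and_eq_true] at h
  have := testBit_applyNet h.1 (ones rep.N) i
  rw [Nat.eq_of_beq_eq_true h.2, testBit_ones, testBit_ones, decide_eq_decide] at this
  exact this.1 hi

/-- the permutation of a checked network -/
noncomputable def netToPerm (l : List Stage) (h : netOKN l = true) : Pm :=
  Equiv.ofBijective (fun i => ⟨netPerm l i, netOKN_lt h i.2⟩)
    (Finite.injective_iff_bijective.1 fun i j e => Fin.ext ((netPerm l).injective (congrArg Fin.val e)))

theorem netToPerm_net (l : List Stage) (h : netOKN l = true) : NetOf l (netToPerm l h) := by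
  refine ⟨?_, fun i => rfl⟩
  simp only [netOKN, Bool.and_eq_true] at h
  exact h.1

/-- a shorter network for a permutation realised by another one -/
theorem NetOf.of_same {l l' : List Stage} {π : Pm} (h : NetOf l π)
    (hs : (netOKN l' && sameNet l l') = true) : NetOf l' π := by
  simp only [Bool.and_eq_true] at hs
  have h' := netToPerm_net l' hs.1
  rwa [← h.eq_of_same h' hs.2] at h'

theorem net_letter {x : ℕ} (hx : x < 7) : NetOf (rep.net x) (phi (ev x)) := by
  rw [phi_ev x hx]
  exact ⟨(Rep.valid_spec rep_valid).2.2.1 x, fun i => rfl⟩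

theorem map_evW {Γ Δ : Type*} [Group Γ] [Group Δ] (f : Γ →* Δ) (e : ℕ → Γ) (w : List ℕ) :
    f (evW e w) = evW (fun x => f (e x)) w := by
  simp [evW, map_list_prod, List.map_map, Function.comp_def]

theorem NetOf.flat {nets : ℕ → List Stage} {els : ℕ → Pm} {n : ℕ}
    (h : ∀ x, x < n → NetOf (nets x) (els x)) :
    ∀ {w : List ℕ}, w.all (fun y => Nat.blt y n) = true → NetOf (w.flatMap nets) (evW els w)
  | [], _ => NetOf.one
  | x :: w, hw => by
    simp only [List.all_cons, Bool.and_eq_true, Nat.blt_eq] at hw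
    rw [List.flatMap_cons, evW_cons]
    exact (h x hw.1).mul (NetOf.flat h hw.2)

theorem net_word {w : List ℕ} (hw : w.all (fun y => Nat.blt y 7) = true) :
    NetOf (rep.netW w) (phi (evW ev w)) := by
  rw [map_evW]
  exact NetOf.flat (fun x hx => net_letter hx) hw

/-- the base point -/
abbrev p0 : Fin rep.N := ⟨0, VCert.pos SuzCert.cert_ok⟩

/-- the neighbours of the base point -/
def D0 : ℕ := (SuzSimple.orbits.map HOrbit.bits).getD 1 0

theorem mem_H_of_fix {g : Cfsg.Spor.Suz} (h : phi g p0 = p0) : g ∈ H := by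
  have h0 : equiv ((1 : Cfsg.Spor.Suz) : Cfsg.Spor.Suz ⧸ H) = p0 := SuzCosets.exists_equiv.choose_spec.2
  have h1 : equiv (g • ((1 : Cfsg.Spor.Suz) : Cfsg.Spor.Suz ⧸ H)) =
      equiv ((1 : Cfsg.Spor.Suz) : Cfsg.Spor.Suz ⧸ H) := by rw [equiv_smul, h0, h]
  have h2 := equiv.injective h1
  rw [MulAction.Quotient.smul_coe, smul_eq_mul, mul_one, QuotientGroup.eq, mul_one] at h2
  exact (Subgroup.inv_mem_iff _).1 h2

theorem D0_inv {h : Cfsg.Spor.Suz} (hh : h ∈ H) (x : Fin rep.N) :
    D0.testBit (phi h x) = D0.testBit x := by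
  have key : ∀ q, q ∈ MulAction.orbit H SuzCosets.orbitB ↔ D0.testBit (equiv q : ℕ) = true :=
    SuzCosets.orbitB_mem
  have h1 := key (equiv.symm x)
  have h2 := key (h • equiv.symm x)
  rw [equiv_smul, Equiv.apply_symm_apply] at h2
  rw [Equiv.apply_symm_apply] at h1
  rw [Bool.eq_iff_iff, ← h1, ← h2]
  constructor
  · rintro ⟨⟨k, hk⟩, e⟩
    refine ⟨⟨h⁻¹ * k, mul_mem (inv_mem hh) hk⟩, ?_⟩
    have e' : k • SuzCosets.orbitB = h • equiv.symm x := e
    show (h⁻¹ * k) • SuzCosets.orbitB = _
    rw [mul_smul, e', inv_smul_smul]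
  · rintro ⟨⟨k, hk⟩, e⟩
    refine ⟨⟨h * k, mul_mem hh hk⟩, ?_⟩
    have e' : k • SuzCosets.orbitB = equiv.symm x := e
    show (h * k) • SuzCosets.orbitB = _
    rw [mul_smul, e']

/-- adjacency -/
def Adj (i j : Fin rep.N) : Prop := ∃ g, phi g p0 = i ∧ D0.testBit (phi g⁻¹ j : ℕ) = true

theorem adj_iff {g : Cfsg.Spor.Suz} {i : Fin rep.N} (hg : phi g p0 = i) (j : Fin rep.N) :
    Adj i j ↔ D0.testBit (phi g⁻¹ j : ℕ) = true := by
  refine ⟨?_, fun h => ⟨g, hg, h⟩⟩
  rintro ⟨g', hg', hb⟩
  have hfix : phi (g⁻¹ * g') p0 = p0 := by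
    rw [map_mul, Equiv.Perm.mul_apply, hg', ← hg, ← Equiv.Perm.mul_apply, ← map_mul, inv_mul_cancel,
      map_one, Equiv.Perm.one_apply]
  have := D0_inv (mem_H_of_fix hfix) (phi g'⁻¹ j)
  rw [← Equiv.Perm.mul_apply, ← map_mul, mul_inv_cancel_right] at this
  rw [this, hb]

/-- preservation of adjacency -/
def Pres (π : Pm) : Prop := ∀ i j, Adj (π i) (π j) ↔ Adj i j

theorem Pres.mul {π π' : Pm} (h : Pres π) (h' : Pres π') : Pres (π * π') := fun i j => by
  rw [Equiv.Perm.mul_apply, Equiv.Perm.mul_apply, h, h']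

theorem Pres.inv {π : Pm} (h : Pres π) : Pres π⁻¹ := fun i j => by
  conv_rhs => rw [← Equiv.apply_symm_apply π i, ← Equiv.apply_symm_apply π j]
  exact (h _ _).symm

theorem pres_phi_forward (k : Cfsg.Spor.Suz) {i j : Fin rep.N} (h : Adj i j) :
    Adj (phi k i) (phi k j) := by
  obtain ⟨g, hg, hb⟩ := h
  refine ⟨k * g, by rw [map_mul, Equiv.Perm.mul_apply, hg], ?_⟩
  rwa [← Equiv.Perm.mul_apply, ← map_mul, mul_inv_rev, inv_mul_cancel_right]

theorem pres_phi (k : Cfsg.Spor.Suz) : Pres (phi k) := fun i j => by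
  refine ⟨fun h => ?_, pres_phi_forward k⟩
  have := pres_phi_forward k⁻¹ h
  simpa [map_inv] using this

/-- a point, a word taking it to the base point, and its neighbours -/
abbrev Row := ℕ × List ℕ × ℕ

/-- the row is right -/
noncomputable def rowOK (r : Row) : Bool :=
  Nat.blt r.1 rep.N && r.2.1.all (fun y => Nat.blt y 7) && sendsB (rep.netW r.2.1) r.1 0 &&
    Nat.beq (applyNet (rep.netW r.2.1) D0) r.2.2

theorem rowOK_lt {r : Row} (h : rowOK r = true) : r.1 < rep.N := by
  simp only [rowOK, Bool.and_eq_true, Nat.blt_eq] at h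
  exact h.1.1.1

theorem rowOK_spec {r : Row} (h : rowOK r = true) (j : Fin rep.N) :
    Adj ⟨r.1, rowOK_lt h⟩ j ↔ r.2.2.testBit j = true := by
  have hlt := rowOK_lt h
  simp only [rowOK, Bool.and_eq_true] at h
  have hn := net_word h.1.1.2
  have hs : phi (evW ev r.2.1) ⟨r.1, hlt⟩ = p0 := hn.sends (y := ⟨r.1, hlt⟩) (x := p0) h.1.2
  have hg : phi (evW ev r.2.1)⁻¹ p0 = ⟨r.1, hlt⟩ := by
    rw [map_inv]
    exact (Equiv.symm_apply_eq _).2 hs.symm
  rw [adj_iff hg, inv_inv, ← hn.bit D0 j, Nat.eq_of_beq_eq_true h.2]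

theorem row_inv {π : Pm} (hπ : Pres π) {r : Row} (h : rowOK r = true)
    (hfix : π ⟨r.1, rowOK_lt h⟩ = ⟨r.1, rowOK_lt h⟩) (j : Fin rep.N) :
    r.2.2.testBit (π j) = r.2.2.testBit j := by
  rw [Bool.eq_iff_iff, ← rowOK_spec h, ← rowOK_spec h]
  conv_lhs => rw [← hfix]
  exact hπ _ _

/-- where all rows agree with the point `v` -/
def profileMask (v : ℕ) : List Row → ℕ
  | [] => ones rep.N
  | r :: l => Nat.land (profileMask v l)
      (cond (r.2.2.testBit v) r.2.2 (Nat.xor (ones rep.N) (Nat.land r.2.2 (ones rep.N))))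

theorem profileMask_mem {v : ℕ} {j : Fin rep.N} : ∀ {l : List Row},
    (∀ r ∈ l, r.2.2.testBit j = r.2.2.testBit v) → (profileMask v l).testBit j = true
  | [], _ => testBit_all j
  | r :: l, h => by
    have h1 := h r List.mem_cons_self
    have h2 := profileMask_mem (v := v) (j := j) (l := l) fun s hs => h s (List.mem_cons_of_mem _ hs)
    rw [profileMask, show Nat.land (profileMask v l) _ = profileMask v l &&& _ from rfl, Nat.testBit_and, h2,
      Bool.true_and]
    cases hb : r.2.2.testBit v
    · rw [hb] at h1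
      rw [cond_false, show ∀ a b : ℕ, Nat.xor a b = a ^^^ b from fun _ _ => rfl,
        show ∀ a b : ℕ, Nat.land a b = a &&& b from fun _ _ => rfl, Nat.testBit_xor, Nat.testBit_and, testBit_all, h1]
      rfl
    · rw [hb] at h1
      exact h1

/-- the rows separate the points of `part` -/
def splitOK : List Row → ℕ → Bool
  | [], part => Nat.beq (Nat.land part (Nat.sub part 1)) 0
  | r :: l, part => cond (Nat.beq part 0) true
      (splitOK l (Nat.land part r.2.2) && splitOK l (Nat.xor part (Nat.land part r.2.2)))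

theorem land_pred_zero {x i j : ℕ} (h : x &&& (x - 1) = 0) (hi : x.testBit i = true)
    (hj : x.testBit j = true) : i = j := by
  by_contra hne
  wlog hlt : i < j generalizing i j
  · exact this hj hi (Ne.symm hne) (lt_of_le_of_ne (not_lt.1 hlt) (Ne.symm hne))
  have h1 : (x - 1).testBit j = false := by
    have := congrArg (fun n => n.testBit j) h
    simpa [Nat.testBit_and, hj] using this
  have hmod : x % 2 ^ j ≠ 0 := by
    intro h0
    have h2 := Nat.testBit_mod_two_pow x j i
    rw [h0] at h2
    simp [hlt, hi] at h2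
  have h2 : (x - 1) / 2 ^ j = x / 2 ^ j := by
    have e := Nat.div_add_mod x (2 ^ j)
    have l := Nat.mod_lt x (Nat.two_pow_pos j)
    refine Nat.div_eq_of_lt_le ?_ ?_
    · rw [Nat.mul_comm]; omega
    · rw [Nat.succ_mul, Nat.mul_comm]; omega
  rw [Nat.testBit_eq_decide_div_mod_eq] at h1 hj
  rw [h2, hj] at h1
  simp at h1

theorem splitOK_spec : ∀ {l : List Row} {part i j : ℕ}, splitOK l part = true →
    part.testBit i = true → part.testBit j = true → (∀ r ∈ l, r.2.2.testBit i = r.2.2.testBit j) → i = j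
  | [], part, i, j, h, hi, hj, _ => land_pred_zero (Nat.eq_of_beq_eq_true h) hi hj
  | r :: l, part, i, j, h, hi, hj, hr => by
    cases hb : Nat.beq part 0
    · simp only [splitOK, hb, cond_false, Bool.and_eq_true] at h
      have hl := fun s hs => hr s (List.mem_cons_of_mem r hs)
      have h0 := hr r List.mem_cons_self
      cases hm : r.2.2.testBit i
      · refine splitOK_spec h.2 ?_ ?_ hl
        · show (part ^^^ (part &&& r.2.2)).testBit i = true
          simp [hi, hm]
        · show (part ^^^ (part &&& r.2.2)).testBit j = true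
          simp [hj, ← h0, hm]
      · refine splitOK_spec h.1 ?_ ?_ hl
        · show (part &&& r.2.2).testBit i = true
          simp [hi, hm]
        · show (part &&& r.2.2).testBit j = true
          simp [hj, ← h0, hm]
    · rw [Nat.eq_of_beq_eq_true hb] at hi
      simp at hi

/-- each new point is determined by the earlier rows, and in the end all points are -/
noncomputable def chainOK : List Row → List Row → Bool
  | k, [] => splitOK k (ones rep.N)
  | k, r :: l => rowOK r && Nat.beq (profileMask r.1 k) (one1 r.1) && chainOK (r :: k) l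

theorem chain_fix {π : Pm} (hπ : Pres π) : ∀ {l k : List Row}, chainOK k l = true →
    (∀ r ∈ k, ∃ h : rowOK r = true, π ⟨r.1, rowOK_lt h⟩ = ⟨r.1, rowOK_lt h⟩) → π = 1
  | [], k, h, hk => by
    refine Equiv.ext fun i => Fin.ext ?_
    refine splitOK_spec h (testBit_all (π i)) (testBit_all i) ?_
    intro r hr
    obtain ⟨h1, h2⟩ := hk r hr
    exact row_inv hπ h1 h2 i
  | r :: l, k, h, hk => by
    simp only [chainOK, Bool.and_eq_true] at h
    obtain ⟨⟨h1, h2⟩, h3⟩ := h
    refine chain_fix hπ h3 fun s hs => ?_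
    rcases List.mem_cons.1 hs with rfl | hs
    · refine ⟨h1, Fin.ext ?_⟩
      have hm : (profileMask s.1 k).testBit (π ⟨s.1, rowOK_lt h1⟩) = true :=
        profileMask_mem fun t ht => by
          obtain ⟨e1, e2⟩ := hk t ht
          exact row_inv hπ e1 e2 ⟨s.1, rowOK_lt h1⟩
      rw [Nat.eq_of_beq_eq_true h2, testBit_one1, decide_eq_true_eq] at hm
      exact hm
    · exact hk s hs

/-- the positions where the slices agree with their images -/
noncomputable def fixAux (l : List Stage) : List ℕ → ℕ
  | [] => ones rep.N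
  | s :: ss => Nat.land (fixAux l ss) (Nat.xor (ones rep.N) (Nat.land (Nat.xor (applyNet l s) s) (ones rep.N)))

/-- the fixed points of a network -/
noncomputable def fixMask (l : List Stage) : ℕ := fixAux l (slices rep.m)

theorem fixAux_spec {l : List Stage} {π : Pm} (h : NetOf l π) (j : Fin rep.N) : ∀ ss : List ℕ,
    (fixAux l ss).testBit j = true ↔ ∀ s ∈ ss, s.testBit (π j) = s.testBit j
  | [] => ⟨fun _ s hs => absurd hs List.not_mem_nil, fun _ => testBit_all j⟩
  | s :: ss => by
    show (fixAux l ss &&& (ones rep.N ^^^ ((applyNet l s ^^^ s) &&& ones rep.N))).testBit j = true ↔ _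
    rw [Nat.testBit_and, Bool.and_eq_true, fixAux_spec h j ss, List.forall_mem_cons, and_comm]
    simp only [Nat.testBit_xor, Nat.testBit_and, testBit_all, Bool.and_true, h.bit]
    cases s.testBit (π j) <;> cases s.testBit j <;> simp

theorem fixMask_spec {l : List Stage} {π : Pm} (h : NetOf l π) (j : Fin rep.N) :
    (fixMask l).testBit j = true ↔ π j = j := by
  rw [fixMask, fixAux_spec h]
  refine ⟨fun hs => Fin.ext ?_, fun e s _ => by rw [e]⟩
  have hN := (Rep.valid_spec rep_valid).2.1
  exact eq_of_slices (lt_of_lt_of_le (π j).2 hN) (lt_of_lt_of_le j.2 hN) hs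

/-- the rows start from the base point and the orbit of `v` -/
noncomputable def initOK (l : List Stage) (v n : ℕ) (rows : List Row) : Bool :=
  rows.all fun r => rowOK r &&
    (Nat.beq r.1 0 || (List.range n).any fun i => sendsB (netPow l i) v r.1)

/-- an automorphism commuting with `B` is pinned down by two points -/
theorem pin {π B : Pm} {l : List Stage} {v : Fin rep.N} {n : ℕ} {rows steps : List Row}
    (hπ : Pres π) (hl : NetOf l B) (hc : π * B = B * π) (h0 : π p0 = p0) (hv : π v = v)
    (hi : initOK l v n rows = true) (hch : chainOK rows steps = true) : π = 1 := by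
  refine chain_fix hπ hch fun r hr => ?_
  simp only [initOK, List.all_eq_true, Bool.and_eq_true, Bool.or_eq_true, List.any_eq_true,
    List.mem_range] at hi
  obtain ⟨h1, h2⟩ := hi r hr
  refine ⟨h1, ?_⟩
  rcases h2 with h2 | ⟨i, -, h2⟩
  · have e : (⟨r.1, rowOK_lt h1⟩ : Fin rep.N) = p0 := Fin.ext (Nat.eq_of_beq_eq_true h2)
    rw [e, h0]
  · have e := (hl.pow i).sends (y := v) (x := ⟨r.1, rowOK_lt h1⟩) h2
    have hci : π * B ^ i = B ^ i * π := (Commute.pow_right (show Commute π B from hc) i).eq
    rw [← e, ← Equiv.Perm.mul_apply, hci, Equiv.Perm.mul_apply, hv]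

end CfsgLib.OutSuz
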