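import Cfsg.Agent.Lib.OutSuz.Cent
import Cfsg.Agent.Lib.Schur.OutRigid

/-!
The outer automorphism group of the Suzuki group has order two.
-/
set_option autoImplicit false
set_option maxRecDepth 8000

namespace CfsgLib.OutSuz

open CfsgLib.Presented CfsgLib.Presented.Vec CfsgLib.Schur
open CfsgLib.Presented.SuzCosets (phi phi_ev rep_valid ev)
open CfsgLib.Presented.SuzCert (rep)
open CfsgLib.Presented.SuzOrder (phi_injective card_eq)

theorem finite_suz : Finite Cfsg.Spor.Suz :=
  Nat.finite_of_card_ne_zero (by rw [card_eq]; norm_num)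

/-- the third generator -/
noncomputable def elW : Cfsg.Spor.Suz := elQ 3 * elD 7

/-- its network -/
def netW3 : List Stage := netsQ.getD 3 [] ++ netsD.getD 7 []

theorem net_elW : NetOf netW3 (phi elW) := by
  rw [elW, map_mul]
  exact (net_elQ (by decide)).mul (net_elD (by decide))

/-- equality of group elements from their networks -/
theorem eq_of_nets {l l' : List Stage} {x y : Cfsg.Spor.Suz} (h : NetOf l (phi x)) (h' : NetOf l' (phi y))
    (hs : sameNet l l' = true) : x = y := phi_injective (h.eq_of_same h' hs)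

theorem elA_thirteen : elA ^ 13 = 1 := by
  refine eq_of_nets (l := netPow netA 13) (l' := []) ?_ ?_ (by decide +kernel)
  · rw [map_pow]; exact net_elA.pow 13
  · rw [map_one]; exact NetOf.one

theorem orderOf_elA : orderOf elA = 13 := by
  have : Fact (Nat.Prime 13) := ⟨by norm_num⟩
  refine orderOf_eq_prime elA_thirteen fun h => ?_
  have h1 := applyNet_one_bit net_elA (by rw [h, map_one]) (p := 1) (by decide)
  have h2 : Nat.beq (applyNet netA (one1 1)) (one1 1) = false := by decide +kernel
  rw [h1, Nat.beq_refl] at h2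
  exact absurd h2 (by decide)

theorem elB_conj : elB * elA * elB⁻¹ = elA ^ 4 := by
  rw [mul_inv_eq_iff_eq_mul]
  refine eq_of_nets (l := netC0 ++ netA) (l' := netPow netA 4 ++ netC0) ?_ ?_ (by decide +kernel)
  · rw [map_mul]; exact net_elB.mul net_elA
  · rw [map_mul, map_pow]; exact (net_elA.pow 4).mul net_elB

theorem elW_conj : elW * elB * elW⁻¹ = elB ^ 1 := by
  rw [pow_one, mul_inv_eq_iff_eq_mul]
  refine eq_of_nets (l := netW3 ++ netC0) (l' := netC0 ++ netW3) ?_ ?_ (by decide +kernel)
  · rw [map_mul]; exact net_elW.mul net_elB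
  · rw [map_mul]; exact net_elB.mul net_elW

theorem cent_elA (x : Cfsg.Spor.Suz) (h : x * elA * x⁻¹ = elA) : ∃ i : ℕ, x = elA ^ i := by
  rw [mul_inv_eq_iff_eq_mul] at h
  obtain ⟨i, hi⟩ := cent_A (pres_phi x) (by rw [← map_mul, h, map_mul])
  rw [← map_pow, ← map_mul, ← map_one phi] at hi
  refine ⟨12 * i, ?_⟩
  have h13 : elA ^ (12 * i) * elA ^ i = 1 := by
    rw [← pow_add, show 12 * i + i = 13 * i by ring, pow_mul, elA_thirteen, one_pow]
  calc x = elA ^ (12 * i) * elA ^ i * x := by rw [h13, one_mul]
    _ = _ := by rw [mul_assoc, phi_injective hi, mul_one]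

/-- the centraliser of the element of order 6 -/
noncomputable def listC : List Cfsg.Spor.Suz :=
  (List.range 6).flatMap fun q => (List.range 12).map fun d => elQ q * elD d

theorem mem_listC (x : Cfsg.Spor.Suz) (h : x * elB * x⁻¹ = elB ^ 1) : x ∈ listC := by
  rw [pow_one, mul_inv_eq_iff_eq_mul] at h
  obtain ⟨q, hq, d, hd, h1 | h1⟩ := cent_B (pres_phi x) (by rw [← map_mul, h, map_mul])
  · simp only [listC, List.mem_flatMap, List.mem_map, List.mem_range]
    exact ⟨q, hq, d, hd, (phi_injective h1).symm⟩
  · refine absurd ?_ (permU_not_mem ((elQ q * elD d)⁻¹ * x))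
    rw [map_mul, h1, map_inv, inv_mul_cancel_left]

/-! ### Generation -/

/-- the three generators and their inverses -/
noncomputable def elsT (k : ℕ) : Cfsg.Spor.Suz := [elA, elB, elW, elA⁻¹, elB⁻¹, elW⁻¹].getD k 1

/-- their networks -/
def netsT (k : ℕ) : List Stage :=
  [netA, netC0, netW3, netA.reverse, netC0.reverse, netW3.reverse].getD k []

theorem net_elsT {k : ℕ} (hk : k < 6) : NetOf (netsT k) (phi (elsT k)) := by
  interval_cases k
  · exact net_elA
  · exact net_elB
  · exact net_elW
  · show NetOf netA.reverse (phi elA⁻¹)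
    rw [map_inv]; exact net_elA.rev
  · show NetOf netC0.reverse (phi elB⁻¹)
    rw [map_inv]; exact net_elB.rev
  · show NetOf netW3.reverse (phi elW⁻¹)
    rw [map_inv]; exact net_elW.rev

theorem evW_mem {Γ : Type*} [Group Γ] (K : Subgroup Γ) (e : ℕ → Γ) (h : ∀ k, e k ∈ K) :
    ∀ w : List ℕ, evW e w ∈ K
  | [] => K.one_mem
  | x :: w => by rw [evW_cons]; exact K.mul_mem (h x) (evW_mem K e h w)

theorem elsT_mem (k : ℕ) : elsT k ∈ Subgroup.closure ({elA, elB, elW} : Set Cfsg.Spor.Suz) := by
  have ha : elA ∈ Subgroup.closure ({elA, elB, elW} : Set Cfsg.Spor.Suz) := Subgroup.subset_closure (by simp)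
  have hb : elB ∈ Subgroup.closure ({elA, elB, elW} : Set Cfsg.Spor.Suz) := Subgroup.subset_closure (by simp)
  have hw : elW ∈ Subgroup.closure ({elA, elB, elW} : Set Cfsg.Spor.Suz) := Subgroup.subset_closure (by simp)
  rcases k with _ | _ | _ | _ | _ | _ | k <;> simp [elsT, ha, hb, hw]

theorem gen3_ok : (List.range 2).all (fun i => (wordsGen.getD i []).all (fun y => Nat.blt y 6) &&
    sameNet ((wordsGen.getD i []).flatMap netsT) (rep.net (i + 3))) = true := by decide +kernel

theorem ev_three_mem {i : ℕ} (hi : i < 2) :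
    ev (i + 3) ∈ Subgroup.closure ({elA, elB, elW} : Set Cfsg.Spor.Suz) := by
  have h := gen3_ok
  simp only [List.all_eq_true (l := List.range 2), List.mem_range] at h
  have h := h i hi
  rw [Bool.and_eq_true] at h
  have e : evW elsT (wordsGen.getD i []) = ev (i + 3) :=
    eq_of_nets (by rw [map_evW]; exact NetOf.flat (fun x hx => net_elsT hx) h.1) (net_letter (by omega)) h.2
  rw [← e]
  exact evW_mem _ _ elsT_mem _

/-- the same with two letters added -/
noncomputable def elsF (k : ℕ) : Cfsg.Spor.Suz :=
  [elA, elB, elW, ev 3, ev 4, elA⁻¹, elB⁻¹, elW⁻¹, ev 3, ev 4].getD k 1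

/-- their networks -/
def netsF (k : ℕ) : List Stage :=
  [netA, netC0, netW3, rep.net 3, rep.net 4, netA.reverse, netC0.reverse, netW3.reverse, rep.net 3,
    rep.net 4].getD k []

theorem net_elsF {k : ℕ} (hk : k < 10) : NetOf (netsF k) (phi (elsF k)) := by
  interval_cases k
  · exact net_elA
  · exact net_elB
  · exact net_elW
  · exact net_letter (x := 3) (by decide)
  · exact net_letter (x := 4) (by decide)
  · exact net_elsT (k := 3) (by decide)
  · exact net_elsT (k := 4) (by decide)
  · exact net_elsT (k := 5) (by decide)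
  · exact net_letter (x := 3) (by decide)
  · exact net_letter (x := 4) (by decide)

theorem gen7_ok : (List.range 7).all (fun x =>
    if x = 3 ∨ x = 4 then true else (wordsGen5.getD x []).all (fun y => Nat.blt y 10) &&
      sameNet ((wordsGen5.getD x []).flatMap netsF) (rep.net x)) = true := by decide +kernel

theorem gen_abc : Subgroup.closure ({elA, elB, elW} : Set Cfsg.Spor.Suz) = ⊤ := by
  rw [eq_top_iff, ← SuzCosets.gen_top, Subgroup.closure_le]
  rintro _ ⟨x, hx, rfl⟩
  have hx' : x < 7 := hx
  have h := List.all_eq_true.1 gen7_ok x (List.mem_range.2 hx')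
  by_cases h34 : x = 3 ∨ x = 4
  · rcases h34 with rfl | rfl
    · exact ev_three_mem (i := 0) (by decide)
    · exact ev_three_mem (i := 1) (by decide)
  rw [if_neg h34, Bool.and_eq_true] at h
  have e : evW elsF (wordsGen5.getD x []) = ev x :=
    eq_of_nets (by rw [map_evW]; exact NetOf.flat (fun x hx => net_elsF hx) h.1) (net_letter hx') h.2
  rw [SetLike.mem_coe, ← e]
  refine evW_mem _ _ (fun k => ?_) _
  have t := elsT_mem
  rcases k with _ | _ | _ | _ | _ | _ | _ | _ | _ | _ | k
  · exact t 0
  · exact t 1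
  · exact t 2
  · exact ev_three_mem (i := 0) (by decide)
  · exact ev_three_mem (i := 1) (by decide)
  · exact t 3
  · exact t 4
  · exact t 5
  · exact ev_three_mem (i := 0) (by decide)
  · exact ev_three_mem (i := 1) (by decide)
  · simp [elsF]

/-! ### The bound -/

/-- relations between the three generators -/
def rels : List (List ℕ × ℕ) := [([0, 2], 13), ([2, 2, 0], 2), ([0, 2, 1, 0, 2, 0, 0, 0], 11)]

/-- the network of a word in three networks -/
def nets3 (la lb lx : List Stage) (w : List ℕ) : List Stage := w.flatMap fun i => [la, lb, lx].getD i []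

theorem net_evalThree {la lb lx : List Stage} {a b x : Cfsg.Spor.Suz} (ha : NetOf la (phi a))
    (hb : NetOf lb (phi b)) (hx : NetOf lx (phi x)) :
    ∀ w : List ℕ, NetOf (nets3 la lb lx w) (phi (evalThree a b x w))
  | [] => by rw [evalThree, map_one]; exact NetOf.one
  | i :: w => by
    rw [evalThree, map_mul, nets3, List.flatMap_cons]
    refine NetOf.mul ?_ (net_evalThree ha hb hx w)
    rcases i with _ | _ | _ | i
    · exact ha
    · exact hb
    · exact hx
    · simpa using NetOf.one

theorem rels_ok : rels.all (fun r => sameNet (netPow (nets3 netA netC0 netW3 r.1) r.2) []) = true := by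
  decide +kernel

/-- the survivor or a witness against the candidate -/
noncomputable def candOK (j q d : ℕ) : Bool :=
  if q = 3 ∧ d = 7 then true else
    (fun w : ℕ × ℕ => Nat.blt w.1 3 && Nat.blt w.2 rep.N &&
      !(Nat.beq (applyNet (netPow (nets3 (netPow netA j) netC0 (netsQ.getD q [] ++ netsD.getD d [])
          (rels.getD w.1 ([], 0)).1) (rels.getD w.1 ([], 0)).2) (one1 w.2)) (one1 w.2)))
      (witness.getD ((j - 1) * 72 + q * 12 + d) (9, 0))

theorem cand_ok : [1, 2].all (fun j => (List.range 6).all fun q => (List.range 12).all fun d =>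
    candOK j q d) = true := by decide +kernel

theorem surv_of (j : ℕ) (hj : j ∈ [1, 2]) (x : Cfsg.Spor.Suz) (hx : x ∈ listC)
    (hrel : ∀ r ∈ rels, evalThree (elA ^ j) elB x r.1 ^ r.2 = 1) :
    (j, x) ∈ [(1, elW), (2, elW)] := by
  simp only [listC, List.mem_flatMap, List.mem_map, List.mem_range] at hx
  obtain ⟨q, hq, d, hd, rfl⟩ := hx
  have h := cand_ok
  simp only [List.all_eq_true, List.mem_range] at h
  have h := h j hj q hq d hd
  by_cases hqd : q = 3 ∧ d = 7
  · obtain ⟨rfl, rfl⟩ := hqd
    simp only [List.mem_cons, List.not_mem_nil, or_false] at hj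
    rcases hj with rfl | rfl <;> simp [elW]
  exfalso
  rw [candOK, if_neg hqd] at h
  simp only [Bool.and_eq_true, Bool.not_eq_true', Nat.blt_eq] at h
  obtain ⟨⟨h1, h2⟩, h3⟩ := h
  set w := witness.getD ((j - 1) * 72 + q * 12 + d) (9, 0)
  have hmem : rels.getD w.1 ([], 0) ∈ rels := by
    rw [List.getD_eq_getElem _ _ (show w.1 < rels.length from h1)]
    exact List.getElem_mem _
  have hr := hrel _ hmem
  have hn := ((net_evalThree (la := netPow netA j) (lx := netsQ.getD q [] ++ netsD.getD d [])
    (a := elA ^ j) (x := elQ q * elD d) (by rw [map_pow]; exact net_elA.pow j) net_elB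
    (by rw [map_mul]; exact (net_elQ hq).mul (net_elD hd)) (rels.getD w.1 ([], 0)).1).pow
      (rels.getD w.1 ([], 0)).2)
  have := applyNet_one_bit hn (by rw [← map_pow, hr, map_one]) h2
  rw [this, Nat.beq_refl] at h3
  exact absurd h3 (by decide)

theorem card_out_le_two : Nat.card (Cfsg.Out Cfsg.Spor.Suz) ≤ 2 := by
  classical
  have := finite_suz
  have : Fact (Nat.Prime 13) := ⟨by norm_num⟩
  refine card_out_le elA elB elW 13 4 1 orderOf_elA (by rw [card_eq]; norm_num) cent_elA elB_conj (by norm_num)
    [1, 2] ?_ elW_conj listC mem_listC gen_abc rels ?_ [(1, elW), (2, elW)] surv_of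
  · intro j hj hj0
    have h : ∀ j : Fin 13, j.val ≠ 0 → ∃ i : Fin 6, j.val * 4 ^ i.val % 13 ∈ [1, 2] := by decide
    obtain ⟨i, hi⟩ := h ⟨j, hj⟩ hj0
    exact ⟨i, hi⟩
  · intro r hr
    have h := List.all_eq_true.1 rels_ok r hr
    exact eq_of_nets (by rw [map_pow]; exact (net_evalThree net_elA net_elB net_elW r.1).pow r.2)
      (by rw [map_one]; exact NetOf.one) h

/-! ### The outer automorphism -/

/-- conjugation by the outer involution, read in the group -/
noncomputable def tau (g : Cfsg.Spor.Suz) : Cfsg.Spor.Suz := (permU_normal g).choose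

theorem tau_spec (g : Cfsg.Spor.Suz) : phi (tau g) = permU * phi g * permU :=
  (permU_normal g).choose_spec

theorem tau_tau (g : Cfsg.Spor.Suz) : tau (tau g) = g := phi_injective (by
  rw [tau_spec, tau_spec, ← mul_assoc, ← mul_assoc, permU_sq, one_mul, mul_assoc, permU_sq, mul_one])

/-- the outer automorphism -/
noncomputable def outerAut : MulAut Cfsg.Spor.Suz where
  toFun := tau
  invFun := tau
  left_inv := tau_tau
  right_inv := tau_tau
  map_mul' g h := phi_injective (by
    rw [map_mul, tau_spec, tau_spec, tau_spec, map_mul]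
    calc permU * (phi g * phi h) * permU = permU * phi g * (permU * permU) * phi h * permU := by
          rw [permU_sq]; simp only [mul_assoc, one_mul]
      _ = _ := by simp only [mul_assoc])

theorem fix_base : (List.range 6).foldl (fun S x => Nat.land S (fixMask (rep.net x))) (ones rep.N) = 1 := by
  decide +kernel

theorem foldl_land_bit {f : ℕ → ℕ} {j : ℕ} : ∀ (l : List ℕ) (S : ℕ), S.testBit j = true →
    (∀ x ∈ l, (f x).testBit j = true) → (l.foldl (fun S x => Nat.land S (f x)) S).testBit j = true
  | [], _, h, _ => h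
  | x :: l, S, h, hl => by
    rw [List.foldl_cons]
    refine foldl_land_bit l _ ?_ fun y hy => hl y (List.mem_cons_of_mem _ hy)
    show (S &&& f x).testBit j = true
    rw [Nat.testBit_and, h, hl x List.mem_cons_self]
    rfl

theorem outerAut_not_inner : outerAut ∉ Cfsg.Inn Cfsg.Spor.Suz := by
  rintro ⟨g, hg⟩
  have hall : ∀ x, permU * phi x * permU = phi g * phi x * (phi g)⁻¹ := fun x => by
    have h1 : g * x * g⁻¹ = tau x := congrArg (fun α : MulAut Cfsg.Spor.Suz => α x) hg
    rw [← tau_spec, ← h1, map_mul, map_mul, map_inv]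
  set z := (phi g)⁻¹ * permU with hz
  have hzc : ∀ x, z * phi x = phi x * z := fun x => by
    rw [hz, mul_assoc, inv_mul_eq_iff_eq_mul]
    calc permU * phi x = permU * phi x * (permU * permU) := by rw [permU_sq, mul_one]
      _ = permU * phi x * permU * permU := by simp only [mul_assoc]
      _ = _ := by rw [hall]; simp only [mul_assoc]
  have hz0 : z p0 = p0 := by
    refine Fin.ext (VCert.one_bit ?_)
    rw [← fix_base]
    refine foldl_land_bit _ _ (testBit_all _) fun x hx => ?_
    have hx6 : x < 6 := List.mem_range.1 hx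
    rw [fixMask_spec (net_letter (by omega)), ← Equiv.Perm.mul_apply, ← hzc, Equiv.Perm.mul_apply]
    congr 1
    refine SuzCosets.H_fix _ ?_
    have hm : evW ev [x] ∈ SuzCosets.H := SuzCosets.mem_H (by
      interval_cases x <;> simp [SuzCosets.hWords])
    simpa using hm
  have hz1 : z = 1 := Equiv.ext fun i => by
    obtain ⟨h, hh⟩ := SuzSimple.transitive i
    rw [← hh, ← Equiv.Perm.mul_apply, hzc, Equiv.Perm.mul_apply, hz0]
    rfl
  exact permU_not_mem g (inv_mul_eq_one.1 hz1)

theorem card_out : Nat.card (Cfsg.Out Cfsg.Spor.Suz) = 2 := by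
  have := finite_suz
  exact le_antisymm card_out_le_two (two_le_card_out outerAut outerAut_not_inner)

end CfsgLib.OutSuz
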